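import Mathlib

/-!
# `Ext` out of a projective module over a quotient ring
-/

set_option autoImplicit false

universe u

open CategoryTheory

namespace Groth.Agent.CanonExt

variable {A B : Type u} [CommRing A] [CommRing B] [Algebra A B]

/-- `Ext^p_A(L, M) = Hom_A(L, Ext^p_A(B, M))` for `L` finite projective over the quotient `B`. -/
theorem nonempty_ext_equiv (hs : Function.Surjective (algebraMap A B)) (L : Type u) [AddCommGroup L]
    [Module A L] [Module B L] [IsScalarTower A B L] [Module.Finite B L] [Module.Projective B L]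
    (M : Type u) [AddCommGroup M] [Module A M] (p : ℕ) :
    Nonempty (Abelian.Ext (ModuleCat.of A L) (ModuleCat.of A M) p ≃ₗ[A]
      (L →ₗ[A] Abelian.Ext (ModuleCat.of A B) (ModuleCat.of A M) p)) := by
  classical
  obtain ⟨r, π, hπ⟩ := Module.Finite.exists_fin' B L
  obtain ⟨s, hs'⟩ := Module.projective_lifting_property π LinearMap.id hπ
  let v : Fin r → L := fun i => π (Pi.single i 1)
  let φ : Fin r → (ModuleCat.of A L ⟶ ModuleCat.of A B) := fun i =>
    ModuleCat.ofHom (((LinearMap.proj i).comp s).restrictScalars A)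
  let pt : L → (ModuleCat.of A B ⟶ ModuleCat.of A L) := fun x =>
    ModuleCat.ofHom ((LinearMap.toSpanSingleton B L x).restrictScalars A)
  have hid : ∀ x : L, ∑ i, (s x i) • v i = x := fun x => by
    simp only [v, ← map_smul, ← map_sum]
    have h2 : (∑ i, s x i • (Pi.single i (1 : B) : Fin r → B)) = s x := by
      ext j
      simp [Finset.sum_apply, Pi.single_apply]
    rw [h2]
    exact LinearMap.congr_fun hs' x
  have hcomp : 𝟙 (ModuleCat.of A L) = ∑ i, φ i ≫ pt (v i) := ModuleCat.hom_ext <| LinearMap.ext fun x => by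
    simp only [ModuleCat.hom_sum, LinearMap.sum_apply]
    exact (hid x).symm
  let toFun : Abelian.Ext (ModuleCat.of A L) (ModuleCat.of A M) p →ₗ[A]
      (L →ₗ[A] Abelian.Ext (ModuleCat.of A B) (ModuleCat.of A M) p) :=
    { toFun := fun x =>
        { toFun := fun l => (Abelian.Ext.mk₀ (pt l)).comp x (zero_add p)
          map_add' := fun l l' => by
            rw [← Abelian.Ext.add_comp, ← Abelian.Ext.mk₀_add]
            congr 2
            exact ModuleCat.hom_ext (LinearMap.ext fun b => smul_add b l l')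
          map_smul' := fun a l => by
            rw [RingHom.id_apply, ← Abelian.Ext.smul_comp, ← Abelian.Ext.mk₀_smul]
            congr 2
            exact ModuleCat.hom_ext (LinearMap.ext fun b => smul_comm (b : B) a l) }
      map_add' := fun x y => LinearMap.ext fun l => Abelian.Ext.comp_add _ _ _ (zero_add p)
      map_smul' := fun a x => LinearMap.ext fun l => Abelian.Ext.comp_smul _ _ (zero_add p) a }
  refine ⟨LinearEquiv.ofBijective toFun ⟨(injective_iff_map_eq_zero toFun).2 fun x hx => ?_, fun ψ =>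
    ⟨∑ i, (Abelian.Ext.mk₀ (φ i)).comp (ψ (v i)) (zero_add p), LinearMap.ext fun l => ?_⟩⟩⟩
  · rw [← Abelian.Ext.mk₀_id_comp x, hcomp, Abelian.Ext.mk₀_sum, Abelian.Ext.sum_comp]
    refine Finset.sum_eq_zero fun i _ => ?_
    rw [← Abelian.Ext.mk₀_comp_mk₀_assoc]
    exact (congrArg (fun y => (Abelian.Ext.mk₀ (φ i)).comp y (zero_add p)) (LinearMap.congr_fun hx (v i))).trans
      (by rw [LinearMap.zero_apply, Abelian.Ext.comp_zero])
  · show (Abelian.Ext.mk₀ (pt l)).comp (∑ i, _) (zero_add p) = ψ l
    rw [Abelian.Ext.comp_sum]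
    conv_rhs => rw [← hid l, map_sum]
    refine Finset.sum_congr rfl fun i _ => ?_
    obtain ⟨a, ha⟩ := hs (s l i)
    rw [Abelian.Ext.mk₀_comp_mk₀_assoc, show pt l ≫ φ i = a • 𝟙 (ModuleCat.of A B) from
      ModuleCat.hom_ext (LinearMap.ext fun b => by
        show s (b • l) i = a • b
        rw [map_smul, Pi.smul_apply, smul_eq_mul, Algebra.smul_def, ha, mul_comm]),
      Abelian.Ext.mk₀_smul, Abelian.Ext.smul_comp, Abelian.Ext.mk₀_id_comp, ← map_smul,
      ← ha, algebraMap_smul]

end Groth.Agent.CanonExt
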