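import Groth.Agent.ExtCancel.Basic
import Groth.Agent.DeRham.ExtBaseChange
import Groth.Agent.S12080

/-!
# Exterior powers of projective modules of constant rank; cancelling a free summand
-/

set_option autoImplicit false

universe u

open TensorProduct

namespace Groth.Agent.CanonExt

variable {R : Type u} [CommRing R] {Q : Type u} [AddCommGroup Q] [Module R Q]

/-- No exterior powers above degree `m`. -/
def Van (R : Type u) [CommRing R] (M : Type u) [AddCommGroup M] [Module R M] (m : ℕ) : Prop :=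
  ∀ j, m < j → ∀ z ∈ (⋀[R]^j M), z = 0

/-- Functoriality of exterior powers for isomorphisms. -/
noncomputable def extEquiv {M N : Type u} [AddCommGroup M] [Module R M] [AddCommGroup N] [Module R N]
    (e : M ≃ₗ[R] N) (n : ℕ) : ⋀[R]^n M ≃ₗ[R] ⋀[R]^n N :=
  LinearEquiv.ofLinear (exteriorPower.map n e.toLinearMap) (exteriorPower.map n e.symm.toLinearMap)
    (by rw [← exteriorPower.map_comp]; simp [exteriorPower.map_id])
    (by rw [← exteriorPower.map_comp]; simp [exteriorPower.map_id])

theorem van_congr {M N : Type u} [AddCommGroup M] [Module R M] [AddCommGroup N] [Module R N]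
    (e : M ≃ₗ[R] N) {m : ℕ} (h : Van R M m) : Van R N m := fun j hj z hz => by
  have h1 := h j hj _ (ExtCancel.map_mem e.symm.toLinearMap hz)
  have h2 := congrArg (ExteriorAlgebra.map e.toLinearMap) h1
  rw [← AlgHom.comp_apply, ExteriorAlgebra.map_comp_map, map_zero] at h2
  simpa [ExteriorAlgebra.map_id] using h2

theorem van_prod {m : ℕ} (h : Van R Q m) :
    Van R (R × Q) (m + 1) ∧ Nonempty (⋀[R]^(m + 1) (R × Q) ≃ₗ[R] ⋀[R]^m Q) := by
  refine ⟨fun j hj z hz => ?_,
    ⟨(LinearEquiv.ofBijective _ (ExtCancel.bijective_upPow (h _ (Nat.lt_succ_self m)))).symm⟩⟩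
  obtain ⟨j, rfl⟩ : ∃ j', j = j' + 1 := ⟨j - 1, by omega⟩
  rw [ExtCancel.decomp z, h j (by omega) _ (ExtCancel.down_mem hz),
    h (j + 1) (by omega) _ (ExtCancel.map_mem _ hz), map_zero, map_zero, add_zero]

theorem van_pi_prod : ∀ (r m : ℕ), Van R Q m →
    Van R ((Fin r → R) × Q) (r + m) ∧ Nonempty (⋀[R]^(r + m) ((Fin r → R) × Q) ≃ₗ[R] ⋀[R]^m Q)
  | 0, m, h => by
    rw [Nat.zero_add]
    exact ⟨van_congr LinearEquiv.uniqueProd.symm h, ⟨extEquiv LinearEquiv.uniqueProd m⟩⟩
  | r + 1, m, h => by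
    obtain ⟨h1, ⟨e1⟩⟩ := van_pi_prod r m h
    obtain ⟨h2, ⟨e2⟩⟩ := van_prod h1
    let c : (R × ((Fin r → R) × Q)) ≃ₗ[R] (Fin (r + 1) → R) × Q :=
      (LinearEquiv.prodAssoc R R (Fin r → R) Q).symm.trans
        ((Fin.consLinearEquiv R fun _ => R).prodCongr (LinearEquiv.refl R Q))
    rw [Nat.add_right_comm]
    exact ⟨van_congr c h2, ⟨(extEquiv c (r + m + 1)).symm.trans (e2.trans e1)⟩⟩

variable [Module.Finite R Q] [Module.Projective R Q] {m : ℕ} (hm : ∀ z, Module.rankAtStalk (R := R) Q z = m)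

include hm

theorem free_local (P : Ideal R) [P.IsPrime] :
    Module.Free (Localization.AtPrime P) (Localization.AtPrime P ⊗[R] Q) ∧
      Module.finrank (Localization.AtPrime P) (Localization.AtPrime P ⊗[R] Q) = m := by
  refine ⟨Module.free_of_flat_of_isLocalRing, ?_⟩
  rw [← hm ⟨P, inferInstance⟩, Module.rankAtStalk_eq_finrank_tensorProduct]

/-- No exterior powers above the rank. -/
theorem van_of_rank : Van R Q m := by
  intro j hj z hz
  suffices (⟨z, hz⟩ : ⋀[R]^j Q) = 0 from congrArg Subtype.val this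
  refine Module.eq_zero_of_localization_maximal (fun P _ => Localization.AtPrime P ⊗[R] ↥(⋀[R]^j Q))
    (fun P _ => TensorProduct.mk R (Localization.AtPrime P) ↥(⋀[R]^j Q) 1) _ fun P _ => ?_
  obtain ⟨hf, hr⟩ := free_local hm P
  have h0 : Module.finrank (Localization.AtPrime P)
      (⋀[Localization.AtPrime P]^j (Localization.AtPrime P ⊗[R] Q)) = 0 := by
    rw [exteriorPower.finrank_eq, hr, Nat.choose_eq_zero_of_lt hj]
  have : Subsingleton (⋀[Localization.AtPrime P]^j (Localization.AtPrime P ⊗[R] Q)) :=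
    (Module.finBasisOfFinrankEq (Localization.AtPrime P) _ h0).repr.toEquiv.subsingleton
  have : Subsingleton (Localization.AtPrime P ⊗[R] ↥(⋀[R]^j Q)) :=
    (DeRham.ExtBaseChange.equiv R (Localization.AtPrime P) Q j).toEquiv.subsingleton
  exact Subsingleton.elim _ _

/-- The determinant is invertible. -/
theorem invertible_top [IsNoetherianRing R] : Module.Invertible R (⋀[R]^m Q) := by
  classical
  have hloc : ∀ (z : Ideal R) [z.IsMaximal], ∃ r ∉ z,
      Nonempty (LocalizedModule.Away r (⋀[R]^m Q) ≃ₗ[Localization.Away r] Localization.Away r) := by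
    intro z hz
    let L := Localization.AtPrime z
    obtain ⟨hf, hr⟩ := free_local hm z
    have h1 : Module.finrank L (⋀[L]^m (L ⊗[R] Q)) = 1 := by
      rw [exteriorPower.finrank_eq, hr, Nat.choose_self]
    let e : L ⊗[R] ↥(⋀[R]^m Q) ≃ₗ[L] L :=
      (DeRham.ExtBaseChange.equiv R L Q m).trans ((Module.finBasisOfFinrankEq L _ h1).equivFun.trans
        (LinearEquiv.funUnique (Fin 1) L L))
    haveI : Module.FinitePresentation R (⋀[R]^m Q) := Module.finitePresentation_of_finite R _
    obtain ⟨r, hr, l', -⟩ := Module.FinitePresentation.exists_lift_equiv_of_isLocalizedModule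
      (R := R) z.primeCompl (TensorProduct.mk R L (⋀[R]^m Q) 1) (Algebra.linearMap R L) (e.restrictScalars R)
    exact ⟨r, hr, ⟨l'.trans (IsLocalizedModule.iso (Submonoid.powers r) (Algebra.linearMap R (Localization.Away r))
      |>.extendScalarsOfIsLocalization (Submonoid.powers r) (Localization.Away r))⟩⟩
  choose r hr hiso using fun z : {z : Ideal R // z.IsMaximal} => @hloc z.1 z.2
  refine S12080.result R (⋀[R]^m Q) (Set.range r) ?_ (by rintro _ ⟨z, rfl⟩; exact hiso z)
  by_contra hne
  obtain ⟨M, hM, hle⟩ := Ideal.exists_le_maximal _ hne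
  exact hr ⟨M, hM⟩ (hle (Ideal.subset_span ⟨⟨M, hM⟩, rfl⟩))

end Groth.Agent.CanonExt
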